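import Mathlib.RingTheory.Flat.Basic
import Mathlib.RingTheory.TensorProduct.Basic
import Mathlib.LinearAlgebra.TensorProduct.RightExactness
import Mathlib.LinearAlgebra.TensorProduct.Tower

set_option autoImplicit false
set_option linter.unusedSectionVars false
set_option linter.unusedVariables false
set_option linter.unusedSimpArgs false
set_option linter.style.haveILetI false
set_option maxHeartbeats 400000

/-!
# Flat base change of the cohomology of a three-term complex (no `d ∘ d = 0` assumed)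
-/

namespace Groth.Agent.Lib.Helper6.HochBC

open TensorProduct

section Generic

variable {K : Type*} [CommRing K] {R : Type*} [CommRing R] [Algebra K R] [Module.Flat K R]

/-- Flat base change of a kernel, surjectivity part. -/
theorem ker_surj {C D : Type*} [AddCommGroup C] [Module K C] [AddCommGroup D] [Module K D]
    {C' D' : Type*} [AddCommGroup C'] [Module R C'] [AddCommGroup D'] [Module R D']
    (h : C →ₗ[K] D) (h' : C' →ₗ[R] D')
    (ψ : R ⊗[K] C →ₗ[R] C') (χ : R ⊗[K] D →ₗ[R] D')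
    (hψ : Function.Surjective ψ) (hχ : Function.Injective χ)
    (hc : ∀ x, χ (h.baseChange R x) = h' (ψ x))
    (x' : C') (hx' : h' x' = 0) :
    ∃ y : R ⊗[K] (LinearMap.ker h), ψ ((LinearMap.ker h).subtype.baseChange R y) = x' := by
  obtain ⟨x, rfl⟩ := hψ x'
  have h0 : h.baseChange R x = 0 := by
    apply hχ
    rw [hc, hx', map_zero]
  have hex : Function.Exact (LinearMap.ker h).subtype h := by
    intro c
    constructor
    · intro hc0
      exact ⟨⟨c, hc0⟩, rfl⟩
    · rintro ⟨z, rfl⟩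
      exact z.2
  have hex2 := Module.Flat.lTensor_exact R hex
  have h0' : (h.lTensor R) x = 0 := h0
  obtain ⟨y, hy⟩ := (hex2 x).1 h0'
  exact ⟨y, by rw [LinearMap.baseChange_eq_ltensor, hy]⟩

/-- Flat base change of a kernel, injectivity part. -/
theorem ker_inj {C : Type*} [AddCommGroup C] [Module K C]
    {C' : Type*} [AddCommGroup C'] [Module R C']
    (Z : Submodule K C)
    (ψ : R ⊗[K] C →ₗ[R] C') (hψ : Function.Injective ψ) :
    Function.Injective fun y : R ⊗[K] Z => ψ (Z.subtype.baseChange R y) := by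
  intro y1 y2 hy
  have := hψ hy
  rw [LinearMap.baseChange_eq_ltensor] at this
  exact Module.Flat.lTensor_preserves_injective_linearMap (M := R) Z.subtype
    Z.injective_subtype this

theorem exists_equiv
    {C0 C1 C2 : Type*} [AddCommGroup C0] [Module K C0] [AddCommGroup C1] [Module K C1]
    [AddCommGroup C2] [Module K C2]
    {C0' C1' C2' : Type*} [AddCommGroup C0'] [Module R C0'] [AddCommGroup C1'] [Module R C1']
    [AddCommGroup C2'] [Module R C2']
    (f : C0 →ₗ[K] C1) (g : C1 →ₗ[K] C2) (f' : C0' →ₗ[R] C1') (g' : C1' →ₗ[R] C2')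
    (φ0 : R ⊗[K] C0 →ₗ[R] C0') (φ1 : R ⊗[K] C1 →ₗ[R] C1') (φ2 : R ⊗[K] C2 →ₗ[R] C2')
    (h0 : Function.Bijective φ0) (h1 : Function.Bijective φ1) (h2 : Function.Bijective φ2)
    (hf : ∀ x, φ1 (f.baseChange R x) = f' (φ0 x)) (hg : ∀ x, φ2 (g.baseChange R x) = g' (φ1 x))
    (B : Submodule K C1) (B' : Submodule R C1')
    (hB : B = LinearMap.range f) (hB' : B' = LinearMap.range f') :
    ∃ e : R ⊗[K] (LinearMap.ker g ⧸ B.comap (LinearMap.ker g).subtype) ≃ₗ[R]
        (LinearMap.ker g' ⧸ B'.comap (LinearMap.ker g').subtype),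
      ∀ (r : R) (z : LinearMap.ker g) (hz : φ1 (r ⊗ₜ[K] (z : C1)) ∈ LinearMap.ker g'),
        e (r ⊗ₜ[K] (Submodule.mkQ (B.comap (LinearMap.ker g).subtype) z)) =
          Submodule.mkQ (B'.comap (LinearMap.ker g').subtype) ⟨φ1 (r ⊗ₜ[K] (z : C1)), hz⟩ := by
  subst hB hB'
  classical
  letI : Module K C1' := Module.compHom C1' (algebraMap K R)
  haveI : IsScalarTower K R C1' := IsScalarTower.of_algebraMap_smul (fun r x => rfl)
  -- the map α : R ⊗ Z → Z'
  have hα_mem : ∀ y : R ⊗[K] (LinearMap.ker g),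
      φ1 ((LinearMap.ker g).subtype.baseChange R y) ∈ LinearMap.ker g' := by
    intro y
    have h3 : g.baseChange R ((LinearMap.ker g).subtype.baseChange R y) = 0 := by
      rw [← LinearMap.comp_apply, ← LinearMap.baseChange_comp]
      have : g ∘ₗ (LinearMap.ker g).subtype = 0 := by
        ext z
        exact z.2
      rw [this, LinearMap.baseChange_zero, LinearMap.zero_apply]
    rw [LinearMap.mem_ker, ← hg, h3, map_zero]
  let α : R ⊗[K] (LinearMap.ker g) →ₗ[R] LinearMap.ker g' :=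
    LinearMap.codRestrict (LinearMap.ker g') (φ1 ∘ₗ (LinearMap.ker g).subtype.baseChange R) hα_mem
  have hα_val : ∀ y, ((α y : LinearMap.ker g') : C1') =
      φ1 ((LinearMap.ker g).subtype.baseChange R y) := fun y => rfl
  have hα_inj : Function.Injective α := by
    intro y1 y2 hy
    apply ker_inj (LinearMap.ker g) φ1 h1.1
    show φ1 _ = φ1 _
    rw [← hα_val, ← hα_val, hy]
  have hα_surj : Function.Surjective α := by
    intro z'
    obtain ⟨y, hy⟩ := ker_surj g g' φ1 φ2 h1.2 h2.1 hg z'.1 z'.2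
    exact ⟨y, Subtype.ext hy⟩
  -- the K-linear map Z → H'
  let Q' := (LinearMap.range f').comap (LinearMap.ker g').subtype
  let Q := (LinearMap.range f).comap (LinearMap.ker g).subtype
  let β : LinearMap.ker g →ₗ[K] (LinearMap.ker g' ⧸ Q') :=
    (Q'.mkQ.restrictScalars K) ∘ₗ (α.restrictScalars K) ∘ₗ (TensorProduct.mk K R (LinearMap.ker g) 1)
  have hβ : Q ≤ LinearMap.ker β := by
    intro z hz
    obtain ⟨w, hw⟩ := hz
    rw [LinearMap.mem_ker]
    show Q'.mkQ (α ((1 : R) ⊗ₜ[K] z)) = 0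
    rw [Submodule.mkQ_apply, Submodule.Quotient.mk_eq_zero]
    show ((α ((1 : R) ⊗ₜ[K] z) : LinearMap.ker g') : C1') ∈ LinearMap.range f'
    rw [hα_val, LinearMap.baseChange_tmul]
    refine ⟨φ0 ((1 : R) ⊗ₜ[K] w), ?_⟩
    rw [← hf, LinearMap.baseChange_tmul, hw]
  let Ψ : R ⊗[K] (LinearMap.ker g ⧸ Q) →ₗ[R] (LinearMap.ker g' ⧸ Q') :=
    LinearMap.liftBaseChange R (Q.liftQ β hβ)
  have hΨ : ∀ y : R ⊗[K] (LinearMap.ker g), Ψ (Q.mkQ.baseChange R y) = Q'.mkQ (α y) := by
    intro y
    induction y using TensorProduct.induction_on with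
    | zero => simp
    | add a b ha hb => simp only [map_add, ha, hb]
    | tmul r z =>
      rw [LinearMap.baseChange_tmul, LinearMap.liftBaseChange_tmul]
      show r • Q'.mkQ (α ((1 : R) ⊗ₜ[K] z)) = _
      rw [← map_smul, ← map_smul, smul_tmul', smul_eq_mul, mul_one]
  have hΨ_surj : Function.Surjective Ψ := by
    intro t
    obtain ⟨z', rfl⟩ := Q'.mkQ_surjective t
    obtain ⟨y, rfl⟩ := hα_surj z'
    exact ⟨_, hΨ y⟩
  have hΨ_inj : Function.Injective Ψ := by
    rw [injective_iff_map_eq_zero]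
    intro x hx
    have hs : Function.Surjective (Q.mkQ.baseChange R) := by
      rw [LinearMap.baseChange_eq_ltensor]
      exact LinearMap.lTensor_surjective R Q.mkQ_surjective
    obtain ⟨y, rfl⟩ := hs x
    rw [hΨ, Submodule.mkQ_apply, Submodule.Quotient.mk_eq_zero] at hx
    obtain ⟨w', hw'⟩ := hx
    -- w' ∈ ker (g' ∘ f')
    have hw'0 : (g' ∘ₗ f') w' = 0 := by
      rw [LinearMap.comp_apply, hw']
      exact (α y).2
    have hcomp : ∀ x, φ2 ((g ∘ₗ f).baseChange R x) = (g' ∘ₗ f') (φ0 x) := by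
      intro x
      rw [LinearMap.baseChange_comp, LinearMap.comp_apply, hg, hf, LinearMap.comp_apply]
    obtain ⟨t, ht⟩ := ker_surj (g ∘ₗ f) (g' ∘ₗ f') φ0 φ2 h0.2 h2.1 hcomp w' hw'0
    let fW : LinearMap.ker (g ∘ₗ f) →ₗ[K] LinearMap.ker g :=
      LinearMap.codRestrict (LinearMap.ker g) (f ∘ₗ (LinearMap.ker (g ∘ₗ f)).subtype)
        (fun w => w.2)
    have hy : y = fW.baseChange R t := by
      apply hα_inj
      apply Subtype.ext
      have h4 : (LinearMap.ker g).subtype.baseChange R (fW.baseChange R t) =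
          f.baseChange R ((LinearMap.ker (g ∘ₗ f)).subtype.baseChange R t) := by
        rw [← LinearMap.comp_apply, ← LinearMap.baseChange_comp, ← LinearMap.comp_apply,
          ← LinearMap.baseChange_comp]
        rfl
      rw [hα_val, hα_val, h4, hf, ht, hw']
      rfl
    rw [hy, ← LinearMap.comp_apply, ← LinearMap.baseChange_comp]
    have : Q.mkQ ∘ₗ fW = 0 := by
      ext w
      show Q.mkQ (fW w) = 0
      rw [Submodule.mkQ_apply, Submodule.Quotient.mk_eq_zero]
      exact ⟨w.1, rfl⟩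
    rw [this, LinearMap.baseChange_zero, LinearMap.zero_apply]
  refine ⟨LinearEquiv.ofBijective Ψ ⟨hΨ_inj, hΨ_surj⟩, ?_⟩
  intro r z hz
  have := hΨ (r ⊗ₜ[K] z)
  rw [LinearMap.baseChange_tmul] at this
  show Ψ _ = _
  rw [this]
  congr 1

end Generic

end Groth.Agent.Lib.Helper6.HochBC
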