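import Groth.Prelude.Def_Hoch
import Groth.Prelude.Def_CoactBr2
import Mathlib.RingTheory.HopfAlgebra.Basic
import Mathlib.RingTheory.Bialgebra.TensorProduct
import Mathlib.LinearAlgebra.TensorProduct.Tower
import Mathlib.RingTheory.TensorProduct.Basic
import Mathlib.Algebra.Field.Defs

set_option autoImplicit false
set_option linter.unusedSectionVars false
set_option linter.unusedVariables false
set_option linter.unusedSimpArgs false
set_option linter.style.haveILetI false
set_option maxHeartbeats 400000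

/-!
# The comparison maps `φ_n : R ⊗ C^n(A, V) → C^n(R ⊗ A, R ⊗ V)` of Hochschild cochains
-/

namespace Groth.Agent.Lib.Helper6.HochBC

open TensorProduct

universe u v w

section

variable (K : Type u) [Field K] (A : Type v) [CommRing A] [HopfAlgebra K A]
    (V : Type v) [AddCommGroup V] [Module K V] [HopfRep.Comod K A V]
    (R : Type w) [CommRing R] [Algebra K R]

/-- `a₁ ⊗ a₂ ↦ (1 ⊗ a₁) ⊗ (1 ⊗ a₂)`. -/
noncomputable def iota2 : A ⊗[K] A →ₗ[K] (R ⊗[K] A) ⊗[R] (R ⊗[K] A) :=
  ((AlgebraTensorModule.tensorTensorTensorComm K R K R R R A A).toLinearMap.restrictScalars K) ∘ₗ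
    (TensorProduct.mk K (R ⊗[R] R) (A ⊗[K] A) ((1 : R) ⊗ₜ[R] (1 : R)))

theorem iota2_tmul (a1 a2 : A) :
    iota2 K A R (a1 ⊗ₜ[K] a2) = ((1 : R) ⊗ₜ[K] a1) ⊗ₜ[R] ((1 : R) ⊗ₜ[K] a2) := rfl

theorem iota2_comul (a : A) :
    iota2 K A R (Coalgebra.comul (R := K) a) = Coalgebra.comul (R := R) ((1 : R) ⊗ₜ[K] a) := rfl

variable (φ : ∀ n : ℕ, R ⊗[K] (Hoch.cochain K A V n) →ₗ[R]
      (Hoch.cochain R (R ⊗[K] A) (R ⊗[K] V) n))
    (hφ0 : ∀ x : R ⊗[K] V, φ 0 x = x)
    (hφs : ∀ (n : ℕ) (r : R) (c : Hoch.cochain K A V n) (a : A),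
      φ (n + 1) (r ⊗ₜ[K] (c ⊗ₜ[K] a)) = (φ n (r ⊗ₜ[K] c)) ⊗ₜ[R] ((1 : R) ⊗ₜ[K] a))

include hφ0 hφs

theorem phi_bij : ∀ n : ℕ, Function.Bijective (φ n)
  | 0 => by
    have : ⇑(φ 0) = id := funext hφ0
    rw [this]
    exact Function.bijective_id
  | n + 1 => by
    have hn := phi_bij n
    let e := LinearEquiv.ofBijective (φ n) hn
    let E : R ⊗[K] ((Hoch.cochain K A V n) ⊗[K] A) ≃ₗ[R]
        (Hoch.cochain R (R ⊗[K] A) (R ⊗[K] V) n) ⊗[R] (R ⊗[K] A) :=
      (AlgebraTensorModule.distribBaseChange K R (Hoch.cochain K A V n) A) ≪≫ₗ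
        (LinearEquiv.rTensor (R ⊗[K] A) e)
    have hE : ∀ x, φ (n + 1) x = E x := by
      intro x
      induction x using TensorProduct.induction_on with
      | zero => simp
      | add a b ha hb => rw [map_add, map_add, ha, hb]
      | tmul r y =>
        induction y using TensorProduct.induction_on with
        | zero => simp
        | add a b ha hb => rw [tmul_add, map_add, map_add, ha, hb]
        | tmul c a =>
          rw [hφs]
          rfl
    have : ⇑(φ (n + 1)) = ⇑E := funext hE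
    rw [this]
    exact E.bijective


theorem phi_one_eq (r : R) (t : V ⊗[K] A) :
    φ 1 (r ⊗ₜ[K] t) =
      AlgebraTensorModule.tensorTensorTensorComm K R K R R R V A
        (((1 : R) ⊗ₜ[R] r) ⊗ₜ[K] t) := by
  induction t using TensorProduct.induction_on with
  | zero => simp
  | add a b ha hb => rw [tmul_add, map_add, ha, hb, tmul_add, map_add]
  | tmul b0 b1 =>
    have h1 := hφs 0 r b0 b1
    rw [hφ0] at h1
    rw [h1, AlgebraTensorModule.tensorTensorTensorComm_tmul]
    have e1 : r ⊗ₜ[K] b0 = r • ((1 : R) ⊗ₜ[K] b0) := by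
      rw [smul_tmul', smul_eq_mul, mul_one]
    have e2 : r ⊗ₜ[K] b1 = r • ((1 : R) ⊗ₜ[K] b1) := by
      rw [smul_tmul', smul_eq_mul, mul_one]
    rw [e1, e2, smul_tmul]

theorem phi_d_zero (x : R ⊗[K] V) :
    letI := CoactBr.Comod.baseChange K R A V
    φ 1 ((Hoch.d K A V 0).baseChange R x) = Hoch.d R (R ⊗[K] A) (R ⊗[K] V) 0 (φ 0 x) := by
  letI := CoactBr.Comod.baseChange K R A V
  induction x using TensorProduct.induction_on with
  | zero => simp
  | add a b ha hb => rw [map_add, map_add, ha, hb, map_add, map_add]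
  | tmul r v =>
    rw [LinearMap.baseChange_tmul, Hoch.d_zero_apply, hφ0, Hoch.d_zero_apply, tmul_sub, map_sub,
      phi_one_eq K A V R φ hφ0 hφs]
    have h1 := hφs 0 r v 1
    rw [hφ0] at h1
    rw [h1, Algebra.TensorProduct.one_def]
    rfl

theorem phi_assoc (n : ℕ) (r : R) (c : Hoch.cochain K A V n) (s : A ⊗[K] A) :
    φ (n + 2) (r ⊗ₜ[K] ((TensorProduct.assoc K (Hoch.cochain K A V n) A A).symm (c ⊗ₜ[K] s))) =
      (TensorProduct.assoc R (Hoch.cochain R (R ⊗[K] A) (R ⊗[K] V) n) (R ⊗[K] A) (R ⊗[K] A)).symm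
        ((φ n (r ⊗ₜ[K] c)) ⊗ₜ[R] iota2 K A R s) := by
  induction s using TensorProduct.induction_on with
  | zero => simp
  | add a b ha hb =>
    rw [tmul_add, map_add, tmul_add, map_add, ha, hb, map_add, tmul_add, map_add]
  | tmul a1 a2 =>
    rw [TensorProduct.assoc_symm_tmul, iota2_tmul, TensorProduct.assoc_symm_tmul]
    have h1 := hφs (n + 1) r (c ⊗ₜ[K] a1) a2
    rw [hφs n r c a1] at h1
    exact h1

theorem phi_tail (n : ℕ) (r : R) (c : Hoch.cochain K A V n) (a : A) :
    φ (n + 2) (r ⊗ₜ[K] (Hoch.tail K A (Hoch.cochain K A V n) (c ⊗ₜ[K] a))) =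
      Hoch.tail R (R ⊗[K] A) (Hoch.cochain R (R ⊗[K] A) (R ⊗[K] V) n)
        ((φ n (r ⊗ₜ[K] c)) ⊗ₜ[R] ((1 : R) ⊗ₜ[K] a)) := by
  rw [Hoch.tail_tmul, Hoch.tail_tmul, phi_assoc K A V R φ hφ0 hφs]
  congr 2
  rw [map_sub, map_sub, iota2_comul, iota2_tmul, iota2_tmul, Algebra.TensorProduct.one_def]

theorem phi_d :
    letI := CoactBr.Comod.baseChange K R A V
    ∀ (n : ℕ) (x : R ⊗[K] (Hoch.cochain K A V n)),
      φ (n + 1) ((Hoch.d K A V n).baseChange R x) =
        Hoch.d R (R ⊗[K] A) (R ⊗[K] V) n (φ n x) := by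
  letI := CoactBr.Comod.baseChange K R A V
  intro n
  induction n with
  | zero => exact phi_d_zero K A V R φ hφ0 hφs
  | succ n ih =>
    intro x
    induction x using TensorProduct.induction_on with
    | zero => simp
    | add a b ha hb => rw [map_add, map_add, ha, hb, map_add, map_add]
    | tmul r y =>
      induction y using TensorProduct.induction_on with
      | zero => simp
      | add a b ha hb =>
        rw [tmul_add, map_add, map_add, ha, hb, map_add, map_add]
      | tmul c a =>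
        rw [LinearMap.baseChange_tmul, Hoch.d_succ, Hoch.d_succ, hφs n r c a]
        rw [LinearMap.add_apply, LinearMap.add_apply, LinearMap.smul_apply, LinearMap.smul_apply,
          LinearMap.rTensor_tmul, LinearMap.rTensor_tmul, tmul_add, map_add,
          ← phi_tail K A V R φ hφ0 hφs n r c a]
        have h1 := hφs (n + 1) r (Hoch.d K A V n c) a
        have h2 := ih (r ⊗ₜ[K] c)
        rw [LinearMap.baseChange_tmul] at h2
        rw [h2] at h1
        rw [h1]
        congr 1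
        rcases Nat.even_or_odd (n + 1) with hpar | hpar
        · rw [hpar.neg_one_pow, hpar.neg_one_pow, one_smul, one_smul]
        · rw [hpar.neg_one_pow, hpar.neg_one_pow, neg_smul, neg_smul, one_smul, one_smul,
            tmul_neg, map_neg]

end

end Groth.Agent.Lib.Helper6.HochBC
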